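import Cfsg.Agent.H0.TC
set_option maxRecDepth 100000
namespace H0.TCL270
open H0
noncomputable def r0 : TC.WTr := (.node (.node (.node (.node (.node (.node (.leaf [0] 0 0 false) (.leaf [0, 1, 0, 2, 0, 2, 0] 19 7 false)) (.leaf [1] 18 0 true)) (.node (.node (.leaf [5, 0, 4, 5, 0] 23 1 false) (.leaf [7] 7 1 false)) (.leaf [5, 4, 5, 4, 5] 15 1 true))) (.node (.node (.node (.leaf [0] 0 0 false) (.leaf [3] 12 0 true)) (.leaf [3] 3 1 false)) (.node (.node (.leaf [4] 18 0 false) (.leaf [7] 7 1 false)) (.leaf [6] 5 0 false)))) (.node (.node (.node (.node (.leaf [0] 0 0 false) (.leaf [5] 5 1 false)) (.leaf [4] 3 0 false)) (.node (.node (.leaf [1] 1 1 false) (.leaf [8, 8] 9 0 true)) (.leaf [0, 4, 5, 0, 1] 23 2 false))) (.node (.node (.node (.leaf [3] 18 1 true) (.leaf [8] 7 0 false)) (.leaf [4, 4] 10 0 true)) (.node (.leaf [1] 1 1 false) (.leaf [5] 5 1 false))))) (.node (.node (.node (.node (.node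 (.leaf [4, 5, 0, 1, 5] 23 3 false) (.leaf [5] 5 1 false)) (.leaf [6, 4, 5, 8, 5] 16 1 false)) (.node (.node (.leaf [2] 1 0 false) (.leaf [4] 12 1 false)) (.leaf [6] 5 0 false))) (.node (.node (.node (.leaf [2] 1 0 false) (.leaf [8] 7 0 false)) (.leaf [2] 18 1 false)) (.node (.leaf [1] 1 1 false) (.leaf [6] 5 0 false)))) (.node (.node (.node (.node (.leaf [0] 0 0 false) (.leaf [8] 7 0 false)) (.leaf [4] 3 0 false)) (.node (.node (.leaf [2, 2] 17 0 true) (.leaf [5, 3, 6, 4, 5] 16 5 false)) (.leaf [5, 5] 11 0 false))) (.node (.node (.node (.leaf [0, 2, 0, 2, 0, 6, 0] 19 1 false) (.leaf [8] 7 0 false)) (.leaf [5, 0, 1, 5, 0] 23 4 false)) (.node (.leaf [4] 3 0 false) (.leaf [0, 2, 6, 0, 2, 0, 4] 24 7 false))))))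
noncomputable def tS : Tr := (.leaf (nat_lit 0xfed33139b59664cd53fdfb89974cbf7e613ff15ed786f5ab55a4bfd67e25137ad5afdffec94bd3e6591a127bfa976b0cab322519dfe8d12228891932403f8000000000040409))
noncomputable def tJ : Tr := (.leaf (nat_lit 0x6030724200100302030237000100010286010620003010201010160200001216000011000000600555555010))
noncomputable def tQ : Tr := (.leaf (nat_lit 0x0))
noncomputable def tR : TC.WTr := r0
def hl : List ℕ := [3, 4, 4, 3, 5, 6, 6, 5, 7, 8, 8, 7]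
def B : List (List ℕ) := [[0, 0], [1, 2], [2, 1], [3, 4], [4, 3], [5, 6], [6, 5], [7, 8], [8, 7], [7, 7, 7], [3, 3, 3], [5, 5, 5], [4, 8], [3, 5, 3, 5, 3, 5, 3, 5, 3, 5, 3, 5, 3, 5], [3, 5, 4, 6, 3, 5, 4, 6, 3, 5, 4, 6, 3, 5, 4, 6, 3, 5, 4, 6, 3, 5, 4, 6, 3, 5, 4, 6], [3, 6, 3, 6, 3, 6], [5, 3, 6, 4, 5, 8], [1, 1, 1], [2, 4], [0, 1, 0, 2, 0, 2, 0, 6], [0, 1, 0, 1, 0, 1, 0, 1, 0, 1, 0, 1, 0, 1], [0, 1, 0, 2, 0, 1, 0, 2, 0, 1, 0, 2, 0, 1, 0, 2], [0, 2, 0, 2, 0, 2, 0, 2, 0, 2, 0, 2, 0, 2], [0, 1, 5, 0, 4, 5], [0, 2, 6, 0, 2, 0, 4, 6]]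
def subs : List (List ℕ) := [[3], [4], [5], [6], [7], [8]]
def ex : List (List ℕ) := []
def inv (x : ℕ) : ℕ := [0, 2, 1, 4, 3, 6, 5, 8, 7].getD x 0
noncomputable def rS : ℕ → ℕ := rowOf tS (nat_lit 8) (nat_lit 255) (nat_lit 70) (nat_lit 1180591620717411303423)
noncomputable def rJ : ℕ → ℕ := rowOf tJ (nat_lit 8) (nat_lit 255) (nat_lit 44) (nat_lit 17592186044415)
noncomputable def C : TC.Cfg where
  S := look rS (nat_lit 7) (nat_lit 127)
  J := look rJ (nat_lit 4) (nat_lit 15)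
  Q := lookQ tQ (nat_lit 8) (nat_lit 1) (nat_lit 1)
  R := tR.get
  hl := fun x => hl.contains x
  n := (nat_lit 8)
  M := (nat_lit 8)
  top := (nat_lit 104)
  nl := (nat_lit 9)
  need := (nat_lit 9)
  nr := (nat_lit 5)
theorem k0 : TC.chkRange C 0 1 = true := by decide +kernel
theorem rows0 : ∀ c < (0 + 1) * 64, c < C.M → TC.chkRow C c = true :=
  TC.rows_step (TC.rows_zero C) k0
theorem main {G : Type*} [Group G] (g : ℕ → G) (hB : ∀ r ∈ B, ev g r = 1) (H : Subgroup G)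
    (hH : ∀ w ∈ subs, ev g w ∈ H) :
    H.relIndex (Subgroup.closure (g '' {x | x < 9})) ≠ 0 ∧
      H.relIndex (Subgroup.closure (g '' {x | x < 9})) ≤ 8 :=
  TC.index_le C B subs ex inv hl tR.hint rfl (by decide +kernel) (by decide +kernel)
    (TC.rows_done rows0 (by decide +kernel)) g hB H hH
end H0.TCL270
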